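import Mathlib

/-! Elementary group facts for the Brauer-Feit bound. -/

set_option autoImplicit false

namespace Cfsg.Agent.BrauerFeit

variable {G : Type*} [Group G]

theorem comm_of_le {A B : Subgroup G} (h : A ≤ B) (hB : ∀ a ∈ B, ∀ b ∈ B, a * b = b * a) :
    ∀ a ∈ A, ∀ b ∈ A, a * b = b * a := fun a ha b hb => hB a (h ha) b (h hb)

theorem closure_comm (k : Set G) (hk : ∀ a ∈ k, ∀ b ∈ k, a * b = b * a) :
    ∀ a ∈ Subgroup.closure k, ∀ b ∈ Subgroup.closure k, a * b = b * a := by
  intro a ha b hb
  have h1 := Subgroup.isMulCommutative_closure hk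
  exact setLike_mul_comm ha hb

theorem orderOf_not_dvd [Finite G] {p : ℕ} (A : Subgroup G) (hA : ¬ p ∣ Nat.card A)
    {a : G} (ha : a ∈ A) : ¬ p ∣ orderOf a := fun h =>
  hA (h.trans (Subgroup.orderOf_dvd_natCard A ha))

/-- A subgroup of a finite group whose elements all satisfy `x ^ p = 1` has order `p ^ i`, `i ≤ m`. -/
theorem p_card_le [Finite G] {p m : ℕ} [Fact p.Prime] (hm : (Nat.card G).factorization p ≤ m)
    (K : Subgroup G) (hK : IsPGroup p K) : Nat.card K ∣ p ^ m := by
  obtain ⟨i, hi⟩ := IsPGroup.iff_card.1 hK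
  rw [hi]
  refine pow_dvd_pow p (le_trans ?_ hm)
  rw [← (Fact.out : p.Prime).pow_dvd_iff_le_factorization Nat.card_pos.ne']
  exact hi ▸ Subgroup.card_subgroup_dvd_card K

theorem factorization_le_of_dvd {p m a b : ℕ} (hb : b ≠ 0) (h : a ∣ b)
    (hm : b.factorization p ≤ m) : a.factorization p ≤ m :=
  le_trans ((Nat.factorization_le_iff_dvd (ne_zero_of_dvd_ne_zero hb h) hb).2 h p) hm

/-- From an abelian subgroup of bounded index to a normal one of order prime to `p`. -/
theorem normal_coprime [Finite G] {p m : ℕ} [Fact p.Prime] (hm : (Nat.card G).factorization p ≤ m)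
    (A : Subgroup G) (hA : ∀ a ∈ A, ∀ b ∈ A, a * b = b * a) (J : ℕ) (hJ : A.index ≤ J) :
    ∃ B : Subgroup G, B.Normal ∧ IsMulCommutative B ∧ ¬ p ∣ Nat.card B ∧
      B.index ≤ (J * p ^ m).factorial := by
  classical
  have hp : p.Prime := Fact.out
  haveI : IsMulCommutative A := ⟨⟨fun a b => Subtype.ext (hA _ a.2 _ b.2)⟩⟩
  let φ : A →* G :=
    { toFun := fun a => (a : G) ^ p ^ m
      map_one' := by simp
      map_mul' := fun a b => by
        rw [Subgroup.coe_mul, (show Commute (a : G) b from hA _ a.2 _ b.2).mul_pow] }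
  have hker : IsPGroup p φ.ker := by
    intro a
    refine ⟨m, ?_⟩
    apply Subtype.ext
    apply Subtype.ext
    have h1 : ((a : A) : G) ^ p ^ m = 1 := a.2
    simpa using h1
  have hkcard : Nat.card φ.ker ∣ p ^ m := by
    obtain ⟨i, hi⟩ := IsPGroup.iff_card.1 hker
    rw [hi]
    refine pow_dvd_pow p (le_trans ?_ hm)
    rw [← hp.pow_dvd_iff_le_factorization Nat.card_pos.ne', ← hi]
    exact (Subgroup.card_subgroup_dvd_card φ.ker).trans (Subgroup.card_subgroup_dvd_card A)
  have hle : φ.range ≤ A := by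
    rintro _ ⟨a, rfl⟩
    exact A.pow_mem a.2 _
  have hmul : Nat.card φ.range * Nat.card φ.ker = Nat.card A := by
    rw [Subgroup.card_eq_card_quotient_mul_card_subgroup φ.ker,
      Nat.card_congr (QuotientGroup.quotientKerEquivRange φ).toEquiv]
  have hcop : ¬ p ∣ Nat.card φ.range := by
    intro hp1
    obtain ⟨x, hx⟩ := exists_prime_orderOf_dvd_card' p hp1
    obtain ⟨a, ha⟩ := x.2
    -- the order of `a` has `p`-part at most `p ^ m`
    have ha' : (a : G) ^ p ^ m = (x : G) := ha
    have h1 : orderOf ((a : G) ^ p ^ m) = p := by rw [ha', Subgroup.orderOf_coe, hx]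
    rw [orderOf_pow] at h1
    set o := orderOf (a : G) with ho
    have ho0 : o ≠ 0 := (orderOf_pos (a : G)).ne'
    have h2 : o = p * o.gcd (p ^ m) :=
      ((Nat.div_eq_iff_eq_mul_left (Nat.pos_of_ne_zero (Nat.gcd_ne_zero_left ho0))
        (Nat.gcd_dvd_left _ _)).1 h1)
    obtain ⟨i, him, hi⟩ := (Nat.dvd_prime_pow hp).1 (Nat.gcd_dvd_right o (p ^ m))
    rw [hi] at h2
    have h3 : i + 1 ≤ m := by
      refine le_trans ?_ hm
      rw [← hp.pow_dvd_iff_le_factorization Nat.card_pos.ne']
      refine dvd_trans ?_ (orderOf_dvd_natCard (a : G))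
      rw [← ho, h2, pow_succ, mul_comm]
    have h4 : p ^ (i + 1) ∣ o.gcd (p ^ m) := by
      refine Nat.dvd_gcd ?_ (pow_dvd_pow p h3)
      rw [h2, pow_succ, mul_comm]
    rw [hi] at h4
    have := (Nat.pow_dvd_pow_iff_le_right hp.one_lt).1 h4
    omega
  have hidx : φ.range.index ≤ J * p ^ m := by
    have e1 := Subgroup.index_mul_card φ.range
    have e2 := Subgroup.index_mul_card A
    have hk : Nat.card φ.ker ≤ p ^ m := Nat.le_of_dvd (pow_pos hp.pos m) hkcard
    have hr : 0 < Nat.card φ.range := Nat.card_pos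
    have : φ.range.index * Nat.card φ.range
        = (A.index * Nat.card φ.ker) * Nat.card φ.range := by
      rw [e1, ← e2, ← hmul]; ring
    rw [Nat.eq_of_mul_eq_mul_right hr this]
    exact Nat.mul_le_mul hJ hk
  refine ⟨φ.range.normalCore, inferInstance,
    ⟨⟨fun a b => Subtype.ext (hA _ (hle (φ.range.normalCore_le a.2)) _
      (hle (φ.range.normalCore_le b.2)))⟩⟩,
    fun h => hcop (h.trans (Subgroup.card_dvd_of_le φ.range.normalCore_le)), ?_⟩
  have h5 : φ.range.normalCore.index ∣ φ.range.index.factorial := by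
    rw [Subgroup.normalCore_eq_ker, Subgroup.index_ker, Subgroup.index_eq_card, ← Nat.card_perm]
    exact Subgroup.card_subgroup_dvd_card (MulAction.toPermHom G (G ⧸ φ.range)).range
  exact le_trans (Nat.le_of_dvd (Nat.factorial_pos _) h5) (Nat.factorial_le hidx)

/-- A group which is abelian modulo a small normal `p`-subgroup of exponent `p` is almost abelian. -/
theorem almost_abelian [Finite G] {p m : ℕ} [Fact p.Prime] (hm : (Nat.card G).factorization p ≤ m)
    (B K : Subgroup G) [K.Normal] (hK : ∀ k ∈ K, k ^ p = 1)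
    (hBK : ∀ a ∈ B, ∀ b ∈ B, a * b * a⁻¹ * b⁻¹ ∈ K) :
    ∃ A : Subgroup G, (∀ a ∈ A, ∀ b ∈ A, a * b = b * a) ∧
      A.index ≤ B.index * (p ^ m).factorial * p ^ m := by
  classical
  have hp : p.Prime := Fact.out
  have hKp : IsPGroup p K := fun k => ⟨1, by
    apply Subtype.ext
    simpa using hK k k.2⟩
  have hKcard : Nat.card K ≤ p ^ m :=
    Nat.le_of_dvd (pow_pos hp.pos m) (p_card_le hm K hKp)
  let C0 : Subgroup G := Subgroup.centralizer (K : Set G)
  let C : Subgroup G := B ⊓ C0
  have hC0 : C0.index ≤ (p ^ m).factorial := by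
    let φ : G →* Equiv.Perm K :=
      { toFun := fun g => (MulAut.conjNormal g : MulAut K).toEquiv
        map_one' := by ext k; simp
        map_mul' := fun a b => by ext k; simp [mul_assoc] }
    have hker : φ.ker ≤ C0 := by
      intro g hg
      rw [Subgroup.mem_centralizer_iff]
      intro k hk
      have h1 := congrArg Subtype.val (Equiv.ext_iff.1 hg ⟨k, hk⟩)
      have h2 : g * k * g⁻¹ = k := by simpa [φ] using h1
      rw [mul_inv_eq_iff_eq_mul] at h2
      exact h2.symm
    have h1 : φ.ker.index ≤ (p ^ m).factorial := by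
      rw [Subgroup.index_ker]
      refine le_trans (Nat.le_of_dvd Nat.card_pos (Subgroup.card_subgroup_dvd_card φ.range)) ?_
      rw [Nat.card_perm]
      exact Nat.factorial_le hKcard
    exact le_trans (Nat.le_of_dvd (Nat.pos_of_ne_zero Subgroup.index_ne_zero_of_finite)
      (Subgroup.index_dvd_of_le hker)) h1
  have hCidx : C.index ≤ B.index * (p ^ m).factorial :=
    le_trans Subgroup.index_inf_le (Nat.mul_le_mul_left _ hC0)
  let Z : Subgroup C := Subgroup.center C
  have hpow : ∀ x : C, x ^ p ∈ Z := by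
    intro x
    rw [Subgroup.mem_center_iff]
    intro y
    apply Subtype.ext
    show (y : G) * (x : G) ^ p = (x : G) ^ p * (y : G)
    have hk : (x : G) * y * (x : G)⁻¹ * (y : G)⁻¹ ∈ K := hBK _ x.2.1 _ y.2.1
    set k := (x : G) * y * (x : G)⁻¹ * (y : G)⁻¹ with hkdef
    have hyk : Commute k (y : G) := (Subgroup.mem_centralizer_iff.1 y.2.2) k hk
    have hxk : Commute k (x : G) := (Subgroup.mem_centralizer_iff.1 x.2.2) k hk
    have hx : (x : G) * y = k * y * x := by rw [hkdef]; group
    have hind : ∀ i : ℕ, (x : G) ^ i * y = k ^ i * y * (x : G) ^ i := by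
      intro i
      induction i with
      | zero => simp
      | succ i ih =>
        have h1 : Commute ((x : G)) (k ^ i) := (hxk.pow_left i).symm
        calc (x : G) ^ (i + 1) * y = x * ((x : G) ^ i * y) := by rw [pow_succ']; group
          _ = (x : G) * (k ^ i) * y * (x : G) ^ i := by rw [ih]; group
          _ = k ^ i * ((x : G) * y) * (x : G) ^ i := by rw [h1.eq]; group
          _ = k ^ (i + 1) * y * (x : G) ^ (i + 1) := by
              rw [hx, pow_succ k, pow_succ' (x : G)]; group
    have := hind p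
    rw [hK k hk, one_mul] at this
    exact this.symm
  have hZ : Z.index ≤ p ^ m := by
    have hq : IsPGroup p (C ⧸ Z) := by
      intro q
      obtain ⟨x, rfl⟩ := QuotientGroup.mk_surjective q
      refine ⟨1, ?_⟩
      rw [pow_one, ← QuotientGroup.mk_pow, QuotientGroup.eq_one_iff]
      exact hpow x
    obtain ⟨i, hi⟩ := IsPGroup.iff_card.1 hq
    rw [Subgroup.index_eq_card, hi]
    refine Nat.pow_le_pow_right hp.pos (le_trans ?_ hm)
    rw [← hp.pow_dvd_iff_le_factorization Nat.card_pos.ne', ← hi]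
    exact (Subgroup.card_quotient_dvd_card Z).trans (Subgroup.card_subgroup_dvd_card C)
  refine ⟨Z.map C.subtype, ?_, ?_⟩
  · rintro _ ⟨a, ha, rfl⟩ _ ⟨b, _, rfl⟩
    show (a : G) * b = b * a
    exact (congrArg Subtype.val (Subgroup.mem_center_iff.1 ha b)).symm
  · rw [Subgroup.index_map_subtype, mul_comm]
    exact Nat.mul_le_mul hCidx hZ

/-- Orbit decomposition of an invariant sum. -/
theorem sum_orbits {X : Type*} [Finite G] [MulAction G X] [Fintype X] (h : X → ℕ)
    (hinv : ∀ (g : G) (x : X), h (g • x) = h x) :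
    ∀ (_ : Fintype (MulAction.orbitRel.Quotient G X)),
      ∑ x, h x = ∑ o : MulAction.orbitRel.Quotient G X,
        Nat.card (MulAction.orbit G o.out) * h o.out := by
  classical
  intro _
  rw [← Finset.sum_fiberwise (Finset.univ : Finset X)
    (fun x => (Quotient.mk'' x : MulAction.orbitRel.Quotient G X)) h]
  refine Finset.sum_congr rfl fun o _ => ?_
  have hmem : ∀ x : X, (Quotient.mk'' x : MulAction.orbitRel.Quotient G X) = o ↔
      x ∈ MulAction.orbit G o.out := by
    intro x
    conv_lhs => rhs; rw [← Quotient.out_eq' o]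
    rw [Quotient.eq'']
    exact Iff.rfl
  rw [Finset.sum_congr rfl (g := fun _ => h o.out), Finset.sum_const, smul_eq_mul]
  · congr 1
    rw [Nat.card_coe_set_eq, ← Set.ncard_coe_finset]
    congr 1
    ext x
    simp [hmem]
  · intro x hx
    rw [Finset.mem_filter] at hx
    obtain ⟨g, hg⟩ := (hmem x).1 hx.2
    rw [← hg, hinv]

theorem dvd_sum_orbits {X : Type*} [Finite G] [MulAction G X] [Fintype X] (h : X → ℕ)
    (hinv : ∀ (g : G) (x : X), h (g • x) = h x)
    (hst : ∀ x : X, Nat.card (MulAction.stabilizer G x) ∣ h x) :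
    Nat.card G ∣ ∑ x, h x := by
  classical
  rw [sum_orbits h hinv (Fintype.ofFinite _)]
  refine Finset.dvd_sum fun o _ => ?_
  obtain ⟨j, hj⟩ := hst o.out
  refine ⟨j, ?_⟩
  rw [hj, ← mul_assoc, Nat.card_coe_set_eq, ← MulAction.index_stabilizer,
    Subgroup.index_mul_card]

theorem card_orbits_le {X : Type*} [Finite G] [MulAction G X] [Fintype X] (h : X → ℕ)
    (hinv : ∀ (g : G) (x : X), h (g • x) = h x)
    (hst : ∀ x : X, Nat.card (MulAction.stabilizer G x) ≤ h x) :
    Nat.card (MulAction.orbitRel.Quotient G X) * Nat.card G ≤ ∑ x, h x := by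
  classical
  letI : Fintype (MulAction.orbitRel.Quotient G X) := Fintype.ofFinite _
  rw [sum_orbits h hinv inferInstance, Nat.card_eq_fintype_card, ← Finset.card_univ,
    ← smul_eq_mul, ← Finset.sum_const]
  refine Finset.sum_le_sum fun o _ => ?_
  rw [← Subgroup.index_mul_card (MulAction.stabilizer G o.out), MulAction.index_stabilizer,
    ← Nat.card_coe_set_eq]
  exact Nat.mul_le_mul_left _ (hst _)

/-- An invariant subset all of whose centralizers have order dividing `D`. -/
theorem dvd_card_invariant [Finite G] (S : Set G) (hS : ∀ g x : G, x ∈ S → g * x * g⁻¹ ∈ S)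
    (D : ℕ) (hD : ∀ x ∈ S, Nat.card (Subgroup.centralizer ({x} : Set G)) ∣ D) :
    Nat.card G ∣ D * S.ncard := by
  classical
  letI : Fintype G := Fintype.ofFinite G
  letI : Fintype (ConjAct G) := Fintype.ofFinite _
  let h : G → ℕ := fun x => if x ∈ S then D else 0
  have h1 : Nat.card (ConjAct G) ∣ ∑ x, h x := by
    refine dvd_sum_orbits (G := ConjAct G) h ?_ ?_
    · intro g x
      have he : (g • x ∈ S) ↔ x ∈ S := by
        rw [ConjAct.smul_def]
        constructor
        · intro hx
          have := hS (ConjAct.ofConjAct g)⁻¹ _ hx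
          simpa [mul_assoc] using this
        · exact hS _ x
      simp only [h, he]
    · intro x
      by_cases hx : x ∈ S
      · have hc : Nat.card (MulAction.stabilizer (ConjAct G) x) =
            Nat.card (Subgroup.centralizer ({x} : Set G)) := by
          refine Nat.card_congr (Equiv.subtypeEquiv ConjAct.ofConjAct.toEquiv fun g => ?_)
          rw [MulAction.mem_stabilizer_iff, ConjAct.smul_def]
          simp only [Subgroup.mem_centralizer_iff, Set.mem_singleton_iff, forall_eq,
            MulEquiv.coe_toEquiv, EquivLike.coe_coe]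
          rw [mul_inv_eq_iff_eq_mul]
          exact eq_comm
        simp only [h, if_pos hx, hc]
        exact hD x hx
      · simp only [h, if_neg hx, dvd_zero]
  rw [Nat.card_congr ConjAct.ofConjAct.toEquiv] at h1
  refine h1.trans (dvd_of_eq ?_)
  rw [Finset.sum_ite, Finset.sum_const, Finset.sum_const_zero, add_zero, smul_eq_mul, mul_comm,
    ← Set.ncard_coe_finset]
  congr 2
  ext x; simp

end Cfsg.Agent.BrauerFeit
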