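import Mathlib
import Cfsg.Agent.Lib.BrauerFeit.Group

/-! Jordan's counting argument. -/

set_option autoImplicit false

universe u

namespace Cfsg.Agent.BrauerFeit

/-- Hypotheses for the counting argument. -/
structure Hyp (G : Type u) [Group G] (p L Q R K c n : ℕ) : Prop where
  cent_struct : ∀ g : G, g ∉ Subgroup.center G → ∃ A : Subgroup G,
    (∀ a ∈ A, ∀ b ∈ A, a * b = b * a) ∧ ¬ p ∣ Nat.card A ∧ (∀ a ∈ A, Commute g a) ∧
    (∀ x, Commute g x → x ^ L ∈ A) ∧
    Nat.card (Subgroup.centralizer ({g} : Set G)) ≤ R * Nat.card A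
  root_bound : ∀ A : Subgroup G, (∀ a ∈ A, ∀ b ∈ A, a * b = b * a) → ¬ p ∣ Nat.card A →
    {x : G | x ∈ A ∧ x ^ Q = 1}.ncard ≤ K
  conj_bound : ∀ (a : G) (B : Set G), (∀ x ∈ B, ∀ y ∈ B, x * y = y * x) →
    (∀ b ∈ B, ¬ p ∣ orderOf b ∧ IsConj a b) → B.ncard ≤ c
  center_bound : ∀ g : G, g ∉ Subgroup.center G →
    {z : G | z ∈ Subgroup.center G ∧ IsConj g (g * z)}.ncard ≤ n
  stable : ∀ x : G, x ^ Q ∉ Subgroup.center G → ∃ k, 1 ≤ k ∧ x ^ (L ^ k) ∉ Subgroup.center G ∧
    L ^ k ∣ Q ∧ ∀ y, Commute ((x ^ (L ^ k)) ^ L) y → Commute (x ^ (L ^ k)) y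

section

variable {G : Type u} [Group G]

/-- Number of solutions bound gives a bound on the whole group. -/
theorem card_le_of_pow [Finite G] (A H : Subgroup G) (hA : ∀ a ∈ A, ∀ b ∈ A, a * b = b * a)
    (Q K : ℕ) (hK : {x : G | x ∈ A ∧ x ^ Q = 1}.ncard ≤ K) (hH : ∀ x ∈ A, x ^ Q ∈ H) :
    Nat.card A ≤ K * Nat.card H := by
  let φ : A →* G :=
    { toFun := fun a => (a : G) ^ Q
      map_one' := by simp
      map_mul' := fun a b => by
        rw [Subgroup.coe_mul, (show Commute (a : G) b from hA _ a.2 _ b.2).mul_pow] }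
  rw [Subgroup.card_eq_card_quotient_mul_card_subgroup φ.ker,
    Nat.card_congr (QuotientGroup.quotientKerEquivRange φ).toEquiv, mul_comm]
  refine Nat.mul_le_mul (le_trans ?_ hK) ?_
  · rw [← Nat.card_coe_set_eq]
    refine Nat.card_le_card_of_injective
      (fun a : φ.ker => (⟨((a : A) : G), (a : A).2, a.2⟩ : {x : G | x ∈ A ∧ x ^ Q = 1})) ?_
    intro a b hab
    exact Subtype.ext (Subtype.ext (congrArg (fun y : {x : G | x ∈ A ∧ x ^ Q = 1} => (y : G)) hab))
  · refine Nat.card_mono (Set.toFinite _) ?_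
    rintro _ ⟨a, rfl⟩
    exact hH _ a.2

theorem card_le_image_mul [Finite G] (N : Subgroup G) (a : G) :
    Nat.card N ≤ ((fun g => g * a * g⁻¹) '' (N : Set G)).ncard *
      Nat.card (Subgroup.centralizer ({a} : Set G)) := by
  classical
  set S := (fun g => g * a * g⁻¹) '' (N : Set G) with hS
  rw [← Nat.card_coe_set_eq, ← Nat.card_prod]
  have hex : ∀ s : S, ∃ g : G, g * a * g⁻¹ = (s : G) := fun s => by
    obtain ⟨g, _, hg⟩ := s.2
    exact ⟨g, hg⟩
  choose rep hrep using hex
  let s : N → S := fun x => ⟨(x : G) * a * (x : G)⁻¹, (x : G), x.2, rfl⟩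
  have hc : ∀ x : N, (rep (s x))⁻¹ * (x : G) ∈ Subgroup.centralizer ({a} : Set G) := by
    intro x
    rw [Subgroup.mem_centralizer_singleton_iff]
    have h := hrep (s x)
    show (rep (s x))⁻¹ * (x : G) * a = a * ((rep (s x))⁻¹ * (x : G))
    have h2 : a = (rep (s x))⁻¹ * ((x : G) * a * (x : G)⁻¹) * rep (s x) := by
      show a = (rep (s x))⁻¹ * ((s x : S) : G) * rep (s x)
      rw [← h]; group
    conv_rhs => rw [h2]
    group
  refine Nat.card_le_card_of_injective
    (fun x : N => (s x, (⟨_, hc x⟩ : Subgroup.centralizer ({a} : Set G)))) ?_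
  intro x y hxy
  simp only [Prod.mk.injEq, Subtype.mk.injEq] at hxy
  obtain ⟨h1, h2⟩ := hxy
  rw [h1] at h2
  exact Subtype.ext (mul_left_cancel h2)

theorem card_saturated [Finite G] (M : Subgroup G) (Y : Set G)
    (hY : ∀ g ∈ Y, ∀ m ∈ M, g * m ∈ Y) :
    Y.ncard = Nat.card M * ((QuotientGroup.mk : G → G ⧸ M) '' Y).ncard := by
  have he : (QuotientGroup.mk : G → G ⧸ M) ⁻¹' ((QuotientGroup.mk : G → G ⧸ M) '' Y) = Y := by
    ext g
    refine ⟨?_, fun hg => ⟨g, hg, rfl⟩⟩
    rintro ⟨y, hy, hyg⟩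
    have := hY y hy _ (QuotientGroup.eq.1 hyg)
    simpa using this
  rw [← Nat.card_coe_set_eq, ← Nat.card_coe_set_eq, ← Nat.card_prod]
  conv_lhs => rw [← he]
  exact Nat.card_congr (QuotientGroup.preimageMkEquivSubgroupProdSet M _)

variable {p L Q R K c n : ℕ}

/-- Stable elements. -/
def IsStable (p L : ℕ) (a : G) : Prop :=
  a ∉ Subgroup.center G ∧ ¬ p ∣ orderOf a ∧ ∀ y, Commute (a ^ L) y → Commute a y

theorem IsStable.conj {a : G} (ha : IsStable p L a) (g : G) : IsStable p L (g * a * g⁻¹) := by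
  refine ⟨fun h => ha.1 ?_, ?_, ?_⟩
  · have := (inferInstance : (Subgroup.center G).Normal).conj_mem _ h g⁻¹
    simpa [mul_assoc] using this
  · have : orderOf (g * a * g⁻¹) = orderOf a := (MulAut.conj g).orderOf_eq a
    rw [this]; exact ha.2.1
  · intro y hy
    rw [conj_pow] at hy
    have h1 : Commute (a ^ L) (g⁻¹ * y * g) := by
      have := hy.map (MulAut.conj g⁻¹).toMonoidHom
      simpa [mul_assoc] using this
    have h2 := (ha.2.2 _ h1).map (MulAut.conj g).toMonoidHom
    simpa [mul_assoc] using h2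

variable (h : Hyp G p L Q R K c n)

include h in
theorem trans_commute {a b d : G} (ha : IsStable p L a) (hb : IsStable p L b)
    (hd : IsStable p L d) (hab : Commute a b) (hbd : Commute b d) : Commute a d := by
  obtain ⟨A, hA, -, -, hL, -⟩ := h.cent_struct b hb.1
  have h1 : Commute (a ^ L) (d ^ L) := hA _ (hL a hab.symm) _ (hL d hbd)
  exact (hd.2.2 _ (ha.2.2 _ h1).symm).symm

/-- Stable elements, as a type. -/
abbrev Stable (G : Type u) [Group G] (p L : ℕ) := {a : G // IsStable p L a}

/-- Commuting is an equivalence relation on stable elements. -/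
def famSetoid : Setoid (Stable G p L) where
  r a b := Commute a.1 b.1
  iseqv := ⟨fun a => Commute.refl _, fun hab => hab.symm,
    fun {a b d} hab hbd => trans_commute h a.2 b.2 d.2 hab hbd⟩

/-- Families of commuting stable elements. -/
def Fam : Type u := Quotient (famSetoid h)

noncomputable instance [Finite G] : Fintype (Fam h) :=
  haveI : Finite (Fam h) := Finite.of_surjective (Quotient.mk (famSetoid h)) Quotient.mk_surjective
  Fintype.ofFinite _

instance : MulAction G (Fam h) where
  smul g := Quotient.map (fun a => ⟨g * a.1 * g⁻¹, a.2.conj g⟩) (fun a b hab => by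
    show Commute (g * a.1 * g⁻¹) (g * b.1 * g⁻¹)
    exact hab.map (MulAut.conj g).toMonoidHom)
  one_smul x := by
    induction x using Quotient.ind with | _ a => ?_
    show Quotient.mk _ _ = Quotient.mk _ a
    congr 1
    exact Subtype.ext (by simp)
  mul_smul g k x := by
    induction x using Quotient.ind with | _ a => ?_
    show Quotient.mk _ _ = Quotient.mk _ _
    congr 1
    exact Subtype.ext (by simp [mul_assoc])

variable {h}

/-- The stable elements of a family. -/
def F0 (x : Fam h) : Set G := {a | ∃ ha : IsStable p L a, Quotient.mk (famSetoid h) ⟨a, ha⟩ = x}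

/-- The abelian subgroup of a family. -/
def MF (x : Fam h) : Subgroup G := Subgroup.closure (F0 x ∪ (Subgroup.center G : Set G))

/-- Elements commuting with some element of a family. -/
def YF (x : Fam h) : Set G := {g | ∃ a ∈ F0 x, Commute g a}

theorem F0_nonempty (x : Fam h) : ∃ a, a ∈ F0 x := by
  induction x using Quotient.ind with | _ a => ?_
  exact ⟨a.1, a.2, rfl⟩

theorem F0_commute {x : Fam h} {a b : G} (ha : a ∈ F0 x) (hb : b ∈ F0 x) : Commute a b := by
  obtain ⟨ha1, ha2⟩ := ha
  obtain ⟨hb1, hb2⟩ := hb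
  exact Quotient.exact (ha2.trans hb2.symm)

theorem mem_F0 {x : Fam h} {a b : G} (ha : a ∈ F0 x) (hb : IsStable p L b) (hab : Commute a b) :
    b ∈ F0 x := by
  obtain ⟨ha1, ha2⟩ := ha
  exact ⟨hb, (Quotient.sound (show Commute b a from hab.symm)).trans ha2⟩

theorem mem_MF {x : Fam h} {a : G} (ha : a ∈ F0 x) : a ∈ MF x :=
  Subgroup.subset_closure (Or.inl ha)

theorem center_le_MF (x : Fam h) : Subgroup.center G ≤ MF x :=
  fun _ hz => Subgroup.subset_closure (Or.inr hz)

theorem MF_comm (x : Fam h) : ∀ a ∈ MF x, ∀ b ∈ MF x, a * b = b * a := by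
  refine closure_comm _ ?_
  rintro a (ha | ha) b (hb | hb)
  · exact F0_commute ha hb
  · exact Subgroup.mem_center_iff.1 hb a
  · exact (Subgroup.mem_center_iff.1 ha b).symm
  · exact Subgroup.mem_center_iff.1 hb a

theorem mem_stab_of_commute {x : Fam h} {g a : G} (ha : a ∈ F0 x) (hg : Commute g a) :
    g ∈ MulAction.stabilizer G x := by
  obtain ⟨ha1, ha2⟩ := ha
  rw [MulAction.mem_stabilizer_iff, ← ha2]
  show Quotient.mk _ _ = Quotient.mk _ _
  congr 1
  exact Subtype.ext (by show g * a * g⁻¹ = a; rw [hg.eq, mul_inv_cancel_right])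

theorem MF_le_stab (x : Fam h) : MF x ≤ MulAction.stabilizer G x := by
  obtain ⟨a, ha⟩ := F0_nonempty x
  intro g hg
  exact mem_stab_of_commute ha (MF_comm x g hg a (mem_MF ha))

theorem YF_mul {x : Fam h} {g m : G} (hg : g ∈ YF x) (hm : m ∈ MF x) : g * m ∈ YF x := by
  obtain ⟨a, ha, hga⟩ := hg
  exact ⟨a, ha, hga.mul_left (MF_comm x m hm a (mem_MF ha))⟩

theorem center_subset_YF (x : Fam h) : (Subgroup.center G : Set G) ⊆ YF x := by
  intro z hz
  obtain ⟨a, ha⟩ := F0_nonempty x
  exact ⟨a, ha, (Subgroup.mem_center_iff.1 hz a).symm⟩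

theorem MF_subset_YF (x : Fam h) : (MF x : Set G) ⊆ YF x := by
  intro g hg
  obtain ⟨a, ha⟩ := F0_nonempty x
  exact ⟨a, ha, MF_comm x g hg a (mem_MF ha)⟩

theorem YF_unique {x y : Fam h} {g : G} (hg : g ∉ Subgroup.center G) (hx : g ∈ YF x)
    (hy : g ∈ YF y) : x = y := by
  obtain ⟨a, ⟨ha1, ha2⟩, hga⟩ := hx
  obtain ⟨b, ⟨hb1, hb2⟩, hgb⟩ := hy
  obtain ⟨A, hA, -, -, hL, -⟩ := h.cent_struct g hg
  have h1 : Commute (a ^ L) (b ^ L) := hA _ (hL a hga) _ (hL b hgb)
  rw [← ha2, ← hb2]
  exact Quotient.sound (hb1.2.2 _ (ha1.2.2 _ h1).symm).symm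

theorem F0_smul (g : G) (x : Fam h) {a : G} (ha : a ∈ F0 x) : g * a * g⁻¹ ∈ F0 (g • x) := by
  obtain ⟨ha1, ha2⟩ := ha
  exact ⟨ha1.conj g, by rw [← ha2]; rfl⟩

theorem YF_smul (g : G) (x : Fam h) : YF (g • x) = MulAut.conj g '' YF x := by
  have key : ∀ (g : G) (x : Fam h), MulAut.conj g '' YF x ⊆ YF (g • x) := by
    rintro g x _ ⟨y, ⟨a, ha, hya⟩, rfl⟩
    exact ⟨g * a * g⁻¹, F0_smul g x ha, hya.map (MulAut.conj g).toMonoidHom⟩
  refine Set.Subset.antisymm ?_ (key g x)
  intro y hy
  have h1 := key g⁻¹ (g • x) ⟨y, hy, rfl⟩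
  rw [inv_smul_smul] at h1
  exact ⟨_, h1, by simp [mul_assoc]⟩

theorem YF_diff_smul (g : G) (x : Fam h) :
    (YF (g • x) \ (Subgroup.center G : Set G)).ncard =
      (YF x \ (Subgroup.center G : Set G)).ncard := by
  rw [YF_smul]
  have hc : (Subgroup.center G : Set G) = MulAut.conj g '' (Subgroup.center G : Set G) := by
    ext z
    constructor
    · intro hz
      refine ⟨z, hz, ?_⟩
      rw [MulAut.conj_apply, Subgroup.mem_center_iff.1 hz g, mul_inv_cancel_right]
    · rintro ⟨w, hw, rfl⟩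
      exact (inferInstance : (Subgroup.center G).Normal).conj_mem w hw g
  conv_lhs => rw [hc, ← Set.image_diff (MulAut.conj g).injective]
  exact Set.ncard_image_of_injective _ (MulAut.conj g).injective

theorem card_stab_smul (g : G) (x : Fam h) :
    Nat.card (MulAction.stabilizer G (g • x)) = Nat.card (MulAction.stabilizer G x) := by
  rw [MulAction.stabilizer_smul_eq_stabilizer_map_conj]
  exact Subgroup.card_map_of_injective (MulAut.conj g).injective

variable [Finite G]

theorem stable_or_center (hyp : Hyp G p L Q R K c n) (A : Subgroup G) (hA : ¬ p ∣ Nat.card A)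
    {x : G} (hx : x ∈ A) :
    x ^ Q ∈ Subgroup.center G ∨
      ∃ b j, IsStable p L b ∧ b ^ j = x ^ Q ∧ ∀ g, Commute g x → Commute g b := by
  by_cases hz : x ^ Q ∈ Subgroup.center G
  · exact Or.inl hz
  · obtain ⟨k, -, hk2, hk3, hk4⟩ := hyp.stable x hz
    refine Or.inr ⟨x ^ (L ^ k), Q / L ^ k,
      ⟨hk2, orderOf_not_dvd A hA (A.pow_mem hx _), hk4⟩, ?_, fun g hg => hg.pow_right _⟩
    rw [← pow_mul, Nat.mul_div_cancel' hk3]

theorem stab_bound (x : Fam h) :
    Nat.card (MulAction.stabilizer G x) ≤ c * R * K * Nat.card (MF x) := by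
  obtain ⟨a, ha⟩ := F0_nonempty x
  have hast : IsStable p L a := ha.1
  have h1 : ((fun g => g * a * g⁻¹) '' (MulAction.stabilizer G x : Set G)).ncard ≤ c := by
    have hsub : ∀ b ∈ (fun g => g * a * g⁻¹) '' (MulAction.stabilizer G x : Set G), b ∈ F0 x := by
      rintro _ ⟨g, hg, rfl⟩
      have := F0_smul g x ha
      rwa [MulAction.mem_stabilizer_iff.1 hg] at this
    refine h.conj_bound a _ (fun u hu v hv => F0_commute (hsub u hu) (hsub v hv)) ?_
    intro b hb
    refine ⟨(hsub b hb).1.2.1, ?_⟩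
    obtain ⟨g, -, rfl⟩ := hb
    exact isConj_iff.2 ⟨g, rfl⟩
  obtain ⟨A, hA, hAp, hAc, -, hAcard⟩ := h.cent_struct a hast.1
  have h2 : Nat.card A ≤ K * Nat.card (MF x) := by
    refine card_le_of_pow A (MF x) hA Q K (h.root_bound A hA hAp) ?_
    intro y hy
    rcases stable_or_center h A hAp hy with hz | ⟨b, j, hb, hbj, hbc⟩
    · exact center_le_MF x hz
    · rw [← hbj]
      exact Subgroup.pow_mem _ (mem_MF (mem_F0 ha hb (hbc a (hAc y hy)))) _
  refine le_trans (card_le_image_mul _ a) ?_
  refine le_trans (Nat.mul_le_mul h1 (le_trans hAcard (Nat.mul_le_mul le_rfl h2))) (le_of_eq ?_)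
  ring

/-- Non-central elements commuting with no stable element. -/
def rest (G : Type u) [Group G] (p L : ℕ) : Set G :=
  {g | g ∉ Subgroup.center G ∧ ∀ a, IsStable p L a → ¬ Commute g a}

theorem rest_bound (hyp : Hyp G p L Q R K c n) {g : G} (hg : g ∈ rest G p L) :
    Nat.card (Subgroup.centralizer ({g} : Set G)) ≤ R * K * Nat.card (Subgroup.center G) := by
  obtain ⟨A, hA, hAp, hAc, -, hAcard⟩ := hyp.cent_struct g hg.1
  have h2 : Nat.card A ≤ K * Nat.card (Subgroup.center G) := by
    refine card_le_of_pow A _ hA Q K (hyp.root_bound A hA hAp) ?_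
    intro y hy
    rcases stable_or_center hyp A hAp hy with hz | ⟨b, j, hb, -, hbc⟩
    · exact hz
    · exact (hg.2 b hb (hbc g (hAc y hy))).elim
  refine le_trans hAcard ?_
  rw [mul_assoc]
  exact Nat.mul_le_mul le_rfl h2

theorem rest_dvd (hyp : Hyp G p L Q R K c n) (D : ℕ)
    (hD : ∀ i, 1 ≤ i → i ≤ n * (R * K) → i ∣ D) :
    Nat.card G ∣ D * (rest G p L).ncard := by
  set Z := Subgroup.center G with hZdef
  have hsat : ∀ g ∈ rest G p L, ∀ m ∈ Z, g * m ∈ rest G p L := by
    intro g hg m hm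
    refine ⟨fun hc => hg.1 ?_, fun a ha hcomm => hg.2 a ha ?_⟩
    · have := Z.mul_mem hc (Z.inv_mem hm)
      rwa [mul_inv_cancel_right] at this
    · have h1 : Commute m⁻¹ a := (Subgroup.mem_center_iff.1 (Z.inv_mem hm) a).symm
      have := hcomm.mul_left h1
      rwa [mul_inv_cancel_right] at this
  rw [card_saturated Z _ hsat, Subgroup.card_eq_card_quotient_mul_card_subgroup Z,
    ← mul_assoc, mul_comm D, mul_assoc, mul_comm (Nat.card (G ⧸ Z))]
  refine mul_dvd_mul_left _ (dvd_card_invariant _ ?_ D ?_)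
  · rintro q _ ⟨g, hg, rfl⟩
    obtain ⟨k, rfl⟩ := QuotientGroup.mk_surjective q
    refine ⟨k * g * k⁻¹, ⟨fun hc => hg.1 ?_, fun a ha hcomm => hg.2 (k⁻¹ * a * k⁻¹⁻¹)
      (ha.conj k⁻¹) ?_⟩, by simp⟩
    · have := (inferInstance : Z.Normal).conj_mem _ hc k⁻¹
      simpa [mul_assoc] using this
    · have := hcomm.map (MulAut.conj k⁻¹).toMonoidHom
      simpa [mul_assoc] using this
  · rintro _ ⟨g, hg, rfl⟩
    refine hD _ Nat.card_pos ?_
    set C' := Subgroup.centralizer ({(QuotientGroup.mk g : G ⧸ Z)} : Set (G ⧸ Z)) with hC'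
    set T := C'.comap (QuotientGroup.mk' Z) with hT
    have hTcard : Nat.card T = Nat.card Z * Nat.card C' := by
      rw [← Nat.card_prod]
      exact Nat.card_congr (QuotientGroup.preimageMkEquivSubgroupProdSet Z (C' : Set (G ⧸ Z)))
    have hTle : Nat.card T ≤ n * (R * K * Nat.card Z) := by
      refine le_trans (card_le_image_mul T g) (Nat.mul_le_mul ?_ (rest_bound hyp hg))
      refine le_trans ?_ (hyp.center_bound g hg.1)
      refine le_trans (Set.ncard_le_ncard ?_ (Set.toFinite _))
        (le_of_eq (Set.ncard_image_of_injective _ (mul_right_injective g)))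
      rintro _ ⟨x, hx, rfl⟩
      refine ⟨g⁻¹ * (x * g * x⁻¹), ⟨?_, ?_⟩, by simp⟩
      · have h1 : (QuotientGroup.mk x : G ⧸ Z) * QuotientGroup.mk g =
            QuotientGroup.mk g * QuotientGroup.mk x :=
          (Subgroup.mem_centralizer_singleton_iff.1 hx)
        show g⁻¹ * (x * g * x⁻¹) ∈ Z
        rw [← QuotientGroup.eq_one_iff]
        rw [QuotientGroup.mk_mul, QuotientGroup.mk_mul, QuotientGroup.mk_mul, QuotientGroup.mk_inv,
          QuotientGroup.mk_inv, h1]
        group
      · rw [mul_inv_cancel_left]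
        exact isConj_iff.2 ⟨x, rfl⟩
    rw [hTcard] at hTle
    have hpos : 0 < Nat.card Z := Nat.card_pos
    refine Nat.le_of_mul_le_mul_left (le_trans hTle (le_of_eq ?_)) hpos
    ring

theorem sum_YF (hyp : Hyp G p L Q R K c n) :
    Nat.card G = Nat.card (Subgroup.center G) + (rest G p L).ncard +
      ∑ x : Fam hyp, (YF x \ (Subgroup.center G : Set G)).ncard := by
  classical
  letI : Fintype G := Fintype.ofFinite G
  let P : Fam hyp → Finset G := fun x => (YF x \ (Subgroup.center G : Set G)).toFinset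
  have hP : ∀ x g, g ∈ P x ↔ g ∈ YF x ∧ g ∉ Subgroup.center G := fun x g => by simp [P]
  have hdisj : ((Finset.univ : Finset (Fam hyp)) : Set (Fam hyp)).PairwiseDisjoint P := by
    intro x _ y _ hxy
    rw [Function.onFun, Finset.disjoint_left]
    intro g hgx hgy
    exact hxy (YF_unique ((hP x g).1 hgx).2 ((hP x g).1 hgx).1 ((hP y g).1 hgy).1)
  let Zf : Finset G := (Subgroup.center G : Set G).toFinset
  let Rf : Finset G := (rest G p L).toFinset
  have hu : (Finset.univ : Finset G) = Zf ∪ Rf ∪ Finset.univ.biUnion P := by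
    symm
    rw [Finset.eq_univ_iff_forall]
    intro g
    simp only [Finset.mem_union, Zf, Rf, Set.mem_toFinset, Finset.mem_biUnion, Finset.mem_univ,
      true_and, hP, SetLike.mem_coe]
    by_cases hz : g ∈ Subgroup.center G
    · exact Or.inl (Or.inl hz)
    by_cases hr : g ∈ rest G p L
    · exact Or.inl (Or.inr hr)
    obtain ⟨a, ha, hga⟩ : ∃ a, IsStable p L a ∧ Commute g a := by
      by_contra hcon
      exact hr ⟨hz, fun a ha hga => hcon ⟨a, ha, hga⟩⟩
    exact Or.inr ⟨Quotient.mk _ ⟨a, ha⟩, ⟨a, ⟨ha, rfl⟩, hga⟩, hz⟩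
  have d1 : Disjoint Zf Rf := by
    rw [Finset.disjoint_left]
    intro g h1 h2
    simp only [Zf, Rf, Set.mem_toFinset] at h1 h2
    exact h2.1 h1
  have d2 : Disjoint (Zf ∪ Rf) (Finset.univ.biUnion P) := by
    rw [Finset.disjoint_left]
    intro g h1 h2
    obtain ⟨x, -, hx⟩ := Finset.mem_biUnion.1 h2
    obtain ⟨⟨a, ha, hga⟩, hz⟩ := (hP x g).1 hx
    rcases Finset.mem_union.1 h1 with h1 | h1
    · exact hz (Set.mem_toFinset.1 h1)
    · exact (Set.mem_toFinset.1 h1).2 a ha.1 hga
  rw [Nat.card_eq_fintype_card, ← Finset.card_univ, hu, Finset.card_union_of_disjoint d2,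
    Finset.card_union_of_disjoint d1, Finset.card_biUnion hdisj]
  congr 1
  · congr 1
    · rw [← Set.ncard_eq_toFinset_card', ← Nat.card_coe_set_eq]
      rfl
    · exact (Set.ncard_eq_toFinset_card' _).symm
  · exact Finset.sum_congr rfl fun x _ => (Set.ncard_eq_toFinset_card' _).symm

end

/-- Thresholds. -/
def thr (E : ℕ) : ℕ → ℕ
  | 0 => 0
  | k + 1 => max (thr E k) (E * ((max E (thr E k)).factorial + 1))

theorem jordan_count (p L Q R K c n : ℕ) : ∃ J : ℕ, ∀ (G : Type u) [Group G] [Finite G],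
    Hyp G p L Q R K c n → ∃ H : Subgroup G, (∀ a ∈ H, ∀ b ∈ H, a * b = b * a) ∧ H.index ≤ J := by
  classical
  set E := c * R * K + n * (R * K) + 1 with hE
  refine ⟨E + ∑ k ∈ Finset.range (2 * E + 2), (max E (thr E k)).factorial, fun G _ _ h => ?_⟩
  set J := E + ∑ k ∈ Finset.range (2 * E + 2), (max E (thr E k)).factorial with hJ
  set Z := Subgroup.center G with hZ
  have hzpos : 0 < Nat.card Z := Nat.card_pos
  let N : Fam h → ℕ := fun x => Nat.card (MulAction.stabilizer G x)
  let u : Fam h → ℕ := fun x => (YF x \ (Z : Set G)).ncard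
  let r : Fam h → ℕ := fun x => (Z.subgroupOf (MulAction.stabilizer G x)).index
  have hrN : ∀ x, N x = r x * Nat.card Z := by
    intro x
    have e := Subgroup.index_mul_card (Z.subgroupOf (MulAction.stabilizer G x))
    rw [Nat.card_congr (Subgroup.subgroupOfEquivOfLe
      (le_trans (center_le_MF x) (MF_le_stab x))).toEquiv] at e
    exact e.symm
  have hNinv : ∀ (g : G) (x : Fam h), N (g • x) = N x := fun g x => card_stab_smul g x
  have hrinv : ∀ (g : G) (x : Fam h), r (g • x) = r x := fun g x => by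
    refine Nat.eq_of_mul_eq_mul_right hzpos ?_
    rw [← hrN, ← hrN, hNinv]
  have huinv : ∀ (g : G) (x : Fam h), u (g • x) = u x := fun g x => YF_diff_smul g x
  have hY : ∀ x : Fam h, (YF x).ncard = u x + Nat.card Z := by
    intro x
    have := Set.ncard_sdiff_add_ncard_of_subset (center_subset_YF x) (Set.toFinite _)
    rw [← this, ← Nat.card_coe_set_eq (Z : Set G)]
    rfl
  have hMY : ∀ x : Fam h, Nat.card (MF x) ∣ (YF x).ncard := fun x =>
    ⟨_, card_saturated (MF x) (YF x) fun g hg m hm => YF_mul hg hm⟩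
  have hMle : ∀ x : Fam h, Nat.card (MF x) ≤ u x + Nat.card Z := fun x => by
    rw [← hY x, ← SetLike.coe_sort_coe, Nat.card_coe_set_eq]
    exact Set.ncard_le_ncard (MF_subset_YF x) (Set.toFinite _)
  have hNE : ∀ x : Fam h, N x ≤ E * Nat.card (MF x) := fun x =>
    le_trans (stab_bound x) (Nat.mul_le_mul (by omega) le_rfl)
  have h2Z : ∀ x : Fam h, 2 * Nat.card Z ≤ Nat.card (MF x) := by
    intro x
    obtain ⟨a, ha⟩ := F0_nonempty x
    have e := Subgroup.index_mul_card (Z.subgroupOf (MF x))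
    rw [Nat.card_congr (Subgroup.subgroupOfEquivOfLe (center_le_MF x)).toEquiv] at e
    rw [← e]
    refine Nat.mul_le_mul ?_ le_rfl
    have h1 : (Z.subgroupOf (MF x)).index ≠ 1 := by
      intro h1
      rw [Subgroup.index_eq_one, Subgroup.subgroupOf_eq_top] at h1
      exact ha.1.1 (h1 (mem_MF ha))
    have h0 : (Z.subgroupOf (MF x)).index ≠ 0 := Subgroup.index_ne_zero_of_finite
    omega
  have hsum := sum_YF h
  have husum : ∑ x, u x ≤ Nat.card G := by
    rw [hsum]; exact Nat.le_add_left _ _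
  -- few orbits
  have horb : Nat.card (MulAction.orbitRel.Quotient G (Fam h)) ≤ 2 * E := by
    have h1 : Nat.card (MulAction.orbitRel.Quotient G (Fam h)) * Nat.card G ≤
        ∑ x, 2 * E * u x := by
      refine card_orbits_le (fun x => 2 * E * u x) (fun g x => by
        show 2 * E * u (g • x) = 2 * E * u x
        rw [huinv]) fun x => ?_
      refine le_trans (hNE x) ?_
      have e1 : Nat.card (MF x) ≤ 2 * u x := by
        have := hMle x; have := h2Z x; omega
      exact le_trans (Nat.mul_le_mul le_rfl e1) (le_of_eq (by ring))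
    rw [← Finset.mul_sum] at h1
    exact Nat.le_of_mul_le_mul_right (le_trans h1 (Nat.mul_le_mul le_rfl husum)) Nat.card_pos
  by_contra hno
  have hno' : ∀ H : Subgroup G, (∀ a ∈ H, ∀ b ∈ H, a * b = b * a) → ¬ H.index ≤ J :=
    fun H h1 h2 => hno ⟨H, h1, h2⟩
  -- each step finds a new orbit
  let cnt : ℕ → ℕ := fun k =>
    Nat.card {o : MulAction.orbitRel.Quotient G (Fam h) // r o.out ≤ thr E k}
  have hstep : ∀ k ≤ 2 * E + 1, ∃ x, thr E k < r x ∧ r x ≤ thr E (k + 1) := by
    intro k hk
    set T := thr E k with hT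
    set D := (max E T).factorial with hD
    have hDJ : D ≤ J := by
      refine le_trans ?_ (Nat.le_add_left _ _)
      exact Finset.single_le_sum (f := fun k => (max E (thr E k)).factorial)
        (fun i _ => Nat.zero_le _) (Finset.mem_range.2 (by omega))
    have hdvdD : ∀ i, 1 ≤ i → i ≤ max E T → i ∣ D := fun i h1 h2 =>
      Nat.dvd_factorial h1 h2
    let Bg : Finset (Fam h) := Finset.univ.filter fun x => ¬ r x ≤ T
    let hh : Fam h → ℕ := fun x => D * (u x + if r x ≤ T then 0 else Nat.card Z)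
    have hh1 : Nat.card G ∣ ∑ x, hh x := by
      refine dvd_sum_orbits hh (fun g x => by simp only [hh, huinv, hrinv]) fun x => ?_
      by_cases hx : r x ≤ T
      · simp only [hh, if_pos hx, add_zero]
        have hZu : Nat.card Z ∣ u x := by
          have h1 : Nat.card Z ∣ u x + Nat.card Z := by
            rw [← hY x]
            exact (Subgroup.card_dvd_of_le (center_le_MF x)).trans (hMY x)
          exact (Nat.dvd_add_left (dvd_refl _)).1 h1
        have hr1 : 1 ≤ r x := by
          rcases Nat.eq_zero_or_pos (r x) with h0 | h0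
          · exact (Nat.card_pos (α := MulAction.stabilizer G x)).ne'
              (by rw [show Nat.card _ = N x from rfl, hrN x, h0, zero_mul]) |>.elim
          · exact h0
        show N x ∣ D * u x
        rw [hrN x]
        exact mul_dvd_mul (hdvdD _ hr1 (le_trans hx (le_max_right _ _))) hZu
      · simp only [hh, if_neg hx, ← hY x]
        show N x ∣ D * (YF x).ncard
        have e := Subgroup.index_mul_card ((MF x).subgroupOf (MulAction.stabilizer G x))
        rw [Nat.card_congr (Subgroup.subgroupOfEquivOfLe (MF_le_stab x)).toEquiv] at e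
        rw [show N x = _ from e.symm]
        refine mul_dvd_mul (hdvdD _ (Nat.pos_of_ne_zero Subgroup.index_ne_zero_of_finite) ?_)
          (hMY x)
        refine le_trans ?_ (le_max_left _ _)
        exact Nat.le_of_mul_le_mul_right (le_trans (le_of_eq e) (hNE x)) Nat.card_pos
    have hh2 : ∑ x, hh x = D * ∑ x, u x + Bg.card * (D * Nat.card Z) := by
      simp only [hh, ← Finset.mul_sum, Finset.sum_add_distrib, mul_add]
      congr 1
      rw [Finset.sum_ite, Finset.sum_const_zero, zero_add, Finset.sum_const, smul_eq_mul]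
      simp only [Bg]
      ring
    obtain ⟨k1, hk1⟩ := hh1
    obtain ⟨k2, hk2⟩ := rest_dvd h D (fun i h1 h2 => hdvdD i h1 (le_trans (by omega) (le_max_left _ _)))
    have hkey : D * Nat.card G + Bg.card * (D * Nat.card Z) =
        D * Nat.card Z + Nat.card G * (k1 + k2) := by
      rw [mul_add (Nat.card G), ← hk1, ← hk2, hh2]
      conv_lhs => rw [hsum]
      ring
    by_contra hnone
    have hbig : ∀ x ∈ Bg, D * Nat.card Z < u x := by
      intro x hx
      have hx' : ¬ r x ≤ T := (Finset.mem_filter.1 hx).2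
      have hgt : E * (D + 1) < r x := by
        by_contra hle
        refine hnone ⟨x, Nat.lt_of_not_le hx', ?_⟩
        show r x ≤ max (thr E k) (E * ((max E (thr E k)).factorial + 1))
        exact le_trans (Nat.le_of_not_lt hle) (le_max_right _ _)
      have h1 : E * ((D + 1) * Nat.card Z) < E * Nat.card (MF x) := by
        refine lt_of_lt_of_le ?_ (hNE x)
        rw [hrN x, ← mul_assoc]
        exact Nat.mul_lt_mul_of_pos_right hgt hzpos
      have h2 := Nat.lt_of_mul_lt_mul_left h1
      have h3 := hMle x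
      rw [add_mul, one_mul] at h2
      omega
    have hS0 : Bg.card ≠ 0 := by
      intro h0
      rw [h0, zero_mul, add_zero] at hkey
      have h1 : Nat.card G ∣ D * Nat.card Z :=
        (Nat.dvd_add_left (dvd_mul_right _ _)).1 (hkey ▸ dvd_mul_left _ _)
      refine hno' Z (fun a _ b hb => Subgroup.mem_center_iff.1 hb a) (le_trans ?_ hDJ)
      have h2 := Nat.le_of_dvd (Nat.mul_pos (Nat.factorial_pos _) hzpos) h1
      rw [← Subgroup.index_mul_card Z] at h2
      exact Nat.le_of_mul_le_mul_right h2 hzpos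
    have hS1 : Bg.card ≠ 1 := by
      intro h1
      obtain ⟨x, hx⟩ := Finset.card_eq_one.1 h1
      have hxB : x ∈ Bg := by rw [hx]; exact Finset.mem_singleton_self x
      have hfix : MulAction.stabilizer G x = ⊤ := by
        rw [eq_top_iff]
        intro g _
        rw [MulAction.mem_stabilizer_iff]
        have : g • x ∈ Bg := by
          refine Finset.mem_filter.2 ⟨Finset.mem_univ _, ?_⟩
          rw [hrinv]
          exact (Finset.mem_filter.1 hxB).2
        rw [hx, Finset.mem_singleton] at this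
        exact this
      refine hno' (MF x) (MF_comm x) (le_trans ?_ (Nat.le_add_right _ _))
      have h2 := hNE x
      have h3 : N x = Nat.card G := by
        show Nat.card (MulAction.stabilizer G x) = _
        rw [hfix, Subgroup.card_top]
      rw [h3, ← Subgroup.index_mul_card (MF x)] at h2
      exact Nat.le_of_mul_le_mul_right h2 Nat.card_pos
    obtain ⟨s, hs⟩ : ∃ s, Bg.card = s + 2 := ⟨Bg.card - 2, by omega⟩
    have h1 : Nat.card G ∣ (s + 1) * (D * Nat.card Z) := by
      have h4 : Nat.card G ∣ Nat.card G * (k1 + k2) := dvd_mul_right _ _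
      have h5 : D * Nat.card G + (s + 1) * (D * Nat.card Z) = Nat.card G * (k1 + k2) := by
        rw [hs] at hkey
        have : (s + 2) * (D * Nat.card Z) = (s + 1) * (D * Nat.card Z) + D * Nat.card Z := by ring
        omega
      exact (Nat.dvd_add_right (dvd_mul_left _ _)).1 (h5 ▸ h4)
    have h2 : Nat.card G ≤ (s + 1) * (D * Nat.card Z) := Nat.le_of_dvd
      (Nat.mul_pos (Nat.succ_pos _) (Nat.mul_pos (Nat.factorial_pos _) hzpos)) h1
    have h3 : (s + 2) * (D * Nat.card Z + 1) ≤ ∑ x, u x := by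
      rw [← hs, ← smul_eq_mul, ← Finset.sum_const]
      refine le_trans (Finset.sum_le_sum fun x hx => hbig x hx) ?_
      exact Finset.sum_le_sum_of_subset (Finset.subset_univ _)
    have h6 : (s + 2) * (D * Nat.card Z + 1) =
        (s + 1) * (D * Nat.card Z) + D * Nat.card Z + (s + 2) := by ring
    omega
  have hcnt : ∀ k ≤ 2 * E + 1, k ≤ cnt k := by
    intro k
    induction k with
    | zero => intro _; exact Nat.zero_le _
    | succ k ih =>
      intro hk
      refine le_trans (Nat.succ_le_succ (ih (by omega))) ?_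
      obtain ⟨x, hx1, hx2⟩ := hstep k (by omega)
      set o : MulAction.orbitRel.Quotient G (Fam h) := Quotient.mk'' x with ho
      have hro : r o.out = r x := by
        have : o.out ∈ MulAction.orbit G x := by
          have h1 : (Quotient.mk'' o.out : MulAction.orbitRel.Quotient G (Fam h)) = Quotient.mk'' x := by
            rw [Quotient.out_eq']
          exact Quotient.eq''.1 h1
        obtain ⟨g, hg⟩ := this
        rw [← hg, hrinv]
      have hsub : {o : MulAction.orbitRel.Quotient G (Fam h) | r o.out ≤ thr E k} ⊂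
          {o | r o.out ≤ thr E (k + 1)} := by
        refine Set.ssubset_iff_subset_ne.2 ⟨fun q hq => show r q.out ≤ thr E (k + 1) from
          le_trans (show r q.out ≤ thr E k from hq) (show thr E k ≤ thr E (k + 1) from le_max_left _ _), ?_⟩
        intro heq
        have : r o.out ≤ thr E k := by
          have h1 : o ∈ {o : MulAction.orbitRel.Quotient G (Fam h) | r o.out ≤ thr E (k + 1)} := by
            show r o.out ≤ _
            rw [hro]; exact hx2
          rw [← heq] at h1
          exact h1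
        omega
      have := Set.ncard_lt_ncard hsub (Set.toFinite _)
      rw [← Nat.card_coe_set_eq, ← Nat.card_coe_set_eq] at this
      exact this
  have := hcnt (2 * E + 1) le_rfl
  have h2 : cnt (2 * E + 1) ≤ Nat.card (MulAction.orbitRel.Quotient G (Fam h)) :=
    Nat.card_le_card_of_injective _ Subtype.val_injective
  omega

end Cfsg.Agent.BrauerFeit
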