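import Mathlib

/-! Linear algebra facts for the Brauer-Feit bound. -/

set_option autoImplicit false

namespace Cfsg.Agent.BrauerFeit

open Module

variable {F : Type*} [Field F] {V : Type*} [AddCommGroup V] [Module F V]

variable {G : Type*} [Group G]

theorem apply_inv_apply (ρ : G →* Module.End F V) (g : G) (v : V) : ρ g⁻¹ (ρ g v) = v := by
  rw [← Module.End.mul_apply, ← map_mul, inv_mul_cancel, map_one, Module.End.one_apply]

theorem apply_apply_inv (ρ : G →* Module.End F V) (g : G) (v : V) : ρ g (ρ g⁻¹ v) = v := by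
  rw [← Module.End.mul_apply, ← map_mul, mul_inv_cancel, map_one, Module.End.one_apply]

theorem eigenvalue_conj (ρ : G →* Module.End F V) (a g : G) (μ : F)
    (h : (ρ (g * a * g⁻¹)).HasEigenvalue μ) : (ρ a).HasEigenvalue μ := by
  obtain ⟨v, hv⟩ := h.exists_hasEigenvector
  refine Module.End.hasEigenvalue_of_hasEigenvector (x := ρ g⁻¹ v) ⟨?_, ?_⟩
  · rw [Module.End.mem_eigenspace_iff]
    have h1 := hv.apply_eq_smul
    rw [map_mul, map_mul, Module.End.mul_apply, Module.End.mul_apply] at h1
    have h2 := congrArg (ρ g⁻¹) h1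
    rw [apply_inv_apply, map_smul] at h2
    exact h2
  · intro h0
    apply hv.2
    have h3 := congrArg (ρ g) h0
    rwa [apply_apply_inv, map_zero] at h3

theorem eigenvalue_ne_zero (ρ : G →* Module.End F V) (g : G) (μ : F)
    (h : (ρ g).HasEigenvalue μ) : μ ≠ 0 := by
  intro h0
  obtain ⟨v, hv⟩ := h.exists_hasEigenvector
  have h1 := hv.apply_eq_smul
  rw [h0, zero_smul] at h1
  apply hv.2
  rw [← apply_inv_apply ρ g v, h1, map_zero]

theorem eig_finset [FiniteDimensional F V] (f : Module.End F V) :
    ∃ S : Finset F, S.card ≤ finrank F V ∧ ∀ μ, f.HasEigenvalue μ → μ ∈ S := by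
  classical
  refine ⟨f.charpoly.roots.toFinset, ?_, ?_⟩
  · refine le_trans (Multiset.toFinset_card_le _) (le_trans (Polynomial.card_roots' _) ?_)
    rw [LinearMap.charpoly_natDegree]
  · intro μ hμ
    rw [Multiset.mem_toFinset, Polynomial.mem_roots f.charpoly_monic.ne_zero]
    exact (f.hasEigenvalue_iff_isRoot_charpoly μ).1 hμ

theorem semisimple_of_pow [FiniteDimensional F V] (f : Module.End F V) (k : ℕ) (hkF : (k : F) ≠ 0)
    (h : f ^ k = 1) : f.IsSemisimple := by
  refine Module.End.isSemisimple_of_squarefree_aeval_eq_zero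
    (p := Polynomial.X ^ k - Polynomial.C 1) ?_ ?_
  · exact (Polynomial.separable_X_pow_sub_C (1 : F) hkF one_ne_zero).squarefree
  · simp [h]

/-- A commuting family of diagonalisable operators is determined by few eigenvalues. -/
theorem separate [IsAlgClosed F] [FiniteDimensional F V] (ρ : G →* Module.End F V)
    (hρ : Function.Injective ρ) (B : Set G) [Finite G]
    (hc : ∀ a ∈ B, ∀ b ∈ B, a * b = b * a)
    (hs : ∀ a ∈ B, ((orderOf a : ℕ) : F) ≠ 0)
    (S : Finset F) (hS : ∀ b ∈ B, ∀ μ, (ρ b).HasEigenvalue μ → μ ∈ S)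
    (N : ℕ) (hN : finrank F V ≤ N) (e : ℕ) (he : S.card ≤ e) (he1 : 1 ≤ e) :
    B.ncard ≤ e ^ N := by
  classical
  let f : B → Module.End F V := fun b => ρ b.1
  have hss : ∀ b : B, (f b).IsSemisimple := fun b =>
    semisimple_of_pow _ _ (hs b.1 b.2) (by
      show ρ b.1 ^ _ = 1
      rw [← map_pow, pow_orderOf_eq_one, map_one])
  have hcomm : Pairwise fun i j => Commute (f i) (f j) := by
    intro i j _
    show ρ i.1 * ρ j.1 = ρ j.1 * ρ i.1
    rw [← map_mul, ← map_mul, hc _ i.2 _ j.2]
  have htop := Module.End.iSup_iInf_maxGenEigenspace_eq_top_of_iSup_maxGenEigenspace_eq_top_of_commute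
    f hcomm (fun i => Module.End.iSup_maxGenEigenspace_eq_top (f i))
  have hind : iSupIndep fun χ : B → F => ⨅ i, (f i).maxGenEigenspace (χ i) :=
    Module.End.independent_iInf_maxGenEigenspace_of_forall_mapsTo f (fun i j φ => by
      rcases eq_or_ne j i with rfl | hij
      · exact Module.End.mapsTo_maxGenEigenspace_of_comm (Commute.refl _) φ
      · exact Module.End.mapsTo_maxGenEigenspace_of_comm (hcomm hij) φ)
  let W : (B → F) → Submodule F V := fun χ => ⨅ i, (f i).maxGenEigenspace (χ i)
  letI : Fintype {χ // W χ ≠ ⊥} := hind.fintypeNeBotOfFiniteDimensional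
  have hcard : Fintype.card {χ // W χ ≠ ⊥} ≤ finrank F V := hind.subtype_ne_bot_le_finrank
  have hmem : ∀ (χ : {χ // W χ ≠ ⊥}) (b : B), χ.1 b ∈ S := by
    intro χ b
    apply hS b.1 b.2
    have h1 : W χ.1 ≤ (ρ b.1).eigenspace (χ.1 b) := by
      rw [← (hss b).isFinitelySemisimple.maxGenEigenspace_eq_eigenspace]
      exact iInf_le (fun i => (f i).maxGenEigenspace (χ.1 i)) b
    rw [Module.End.hasEigenvalue_iff]
    intro h0
    rw [h0] at h1
    exact χ.2 (le_bot_iff.1 h1)
  let Φ : B → ({χ // W χ ≠ ⊥} → (S : Set F)) := fun b χ => ⟨χ.1 b, hmem χ b⟩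
  have hinj : Function.Injective Φ := by
    intro b c hbc
    apply Subtype.ext
    apply hρ
    have hall : (⨆ χ, W χ) ≤ LinearMap.eqLocus (ρ b.1) (ρ c.1) := by
      refine iSup_le fun χ => ?_
      rcases eq_or_ne (W χ) ⊥ with h0 | h0
      · rw [h0]; exact bot_le
      intro v hv
      have h1 : ∀ d : B, ρ d.1 v = χ d • v := by
        intro d
        have h2 : v ∈ (f d).maxGenEigenspace (χ d) :=
          (Submodule.mem_iInf _).1 hv d
        rw [(hss d).isFinitelySemisimple.maxGenEigenspace_eq_eigenspace,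
          Module.End.mem_eigenspace_iff] at h2
        exact h2
      show ρ b.1 v = ρ c.1 v
      rw [h1, h1]
      congr 1
      exact congrArg Subtype.val (congrFun hbc ⟨χ, h0⟩)
    rw [htop] at hall
    exact LinearMap.ext fun v => hall Submodule.mem_top
  have h1 := Nat.card_le_card_of_injective Φ hinj
  rw [Nat.card_fun, Nat.card_coe_set_eq, Nat.card_coe_set_eq, Set.ncard_coe_finset,
    Nat.card_eq_fintype_card] at h1
  exact le_trans h1 (le_trans (Nat.pow_le_pow_left he _)
    (Nat.pow_le_pow_right he1 (le_trans hcard hN)))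

/-- The dimension of the commutant of a single operator. -/
noncomputable def cdim (f : Module.End F V) : ℕ :=
  finrank F (LinearMap.ker (LinearMap.mulLeft F f - LinearMap.mulRight F f))

theorem mem_commutant (f g : Module.End F V) :
    g ∈ LinearMap.ker (LinearMap.mulLeft F f - LinearMap.mulRight F f) ↔ f * g = g * f := by
  rw [LinearMap.mem_ker, LinearMap.sub_apply, LinearMap.mulLeft_apply, LinearMap.mulRight_apply,
    sub_eq_zero]

theorem cdim_le [FiniteDimensional F V] (f : Module.End F V) :
    cdim f ≤ finrank F V * finrank F V := by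
  refine le_trans (Submodule.finrank_le _) ?_
  rw [Module.finrank_linearMap]

theorem cdim_pow_mono [FiniteDimensional F V] (f : Module.End F V) (k : ℕ) :
    cdim f ≤ cdim (f ^ k) := by
  refine Submodule.finrank_mono ?_
  intro g hg
  rw [mem_commutant] at hg ⊢
  exact ((show Commute f g from hg).pow_left k).eq

/-- If powering does not enlarge the commutant, then neither does it enlarge centralizers. -/
theorem commute_of_cdim [FiniteDimensional F V] (ρ : G →* Module.End F V)
    (hρ : Function.Injective ρ) (x : G) (k : ℕ) (h : cdim (ρ (x ^ k)) ≤ cdim (ρ x))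
    (y : G) (hy : Commute (x ^ k) y) : Commute x y := by
  have hle : LinearMap.ker (LinearMap.mulLeft F (ρ x) - LinearMap.mulRight F (ρ x)) ≤
      LinearMap.ker (LinearMap.mulLeft F (ρ (x ^ k)) - LinearMap.mulRight F (ρ (x ^ k))) := by
    intro g hg
    rw [mem_commutant] at hg ⊢
    rw [map_pow]
    exact ((show Commute (ρ x) g from hg).pow_left k).eq
  have heq := Submodule.eq_of_le_of_finrank_le hle h
  have h1 : ρ y ∈ LinearMap.ker (LinearMap.mulLeft F (ρ (x ^ k)) - LinearMap.mulRight F (ρ (x ^ k))) := by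
    rw [mem_commutant, ← map_mul, ← map_mul, hy.eq]
  rw [← heq, mem_commutant, ← map_mul, ← map_mul] at h1
  exact hρ h1

/-- A non-scalar element yields an invariant proper subspace for its centralizer. -/
theorem invariant_of_nonscalar [IsAlgClosed F] [FiniteDimensional F V]
    (ρ : G →* Module.End F V) (g : G) (hg : ∀ c : F, ρ g ≠ c • 1) :
    ∃ W : Submodule F V, W ≠ ⊥ ∧ W ≠ ⊤ ∧ ∀ x : G, Commute g x → ∀ w ∈ W, ρ x w ∈ W := by
  rcases subsingleton_or_nontrivial V with hV | hV
  · exact (hg 1 (LinearMap.ext fun v => Subsingleton.elim _ _)).elim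
  obtain ⟨μ, hμ⟩ := Module.End.exists_eigenvalue (ρ g)
  refine ⟨(ρ g).eigenspace μ, hμ, ?_, ?_⟩
  · intro h
    refine hg μ (LinearMap.ext fun v => ?_)
    have : v ∈ (ρ g).eigenspace μ := h ▸ Submodule.mem_top
    rw [Module.End.mem_eigenspace_iff] at this
    simpa using this
  · intro x hx w hw
    rw [Module.End.mem_eigenspace_iff] at hw ⊢
    rw [← Module.End.mul_apply, ← map_mul, hx.eq, map_mul, Module.End.mul_apply, hw, map_smul]

/-- Elements acting trivially on `W` and on `V / W` have order dividing `p`. -/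
theorem pow_p_of_two_step {p : ℕ} [Fact p.Prime] [CharP F p] (f : Module.End F V)
    (W : Submodule F V) (h1 : ∀ w ∈ W, f w = w) (h2 : ∀ v, f v - v ∈ W) : f ^ p = 1 := by
  have hsq : (f - 1) ^ 2 = 0 := by
    refine LinearMap.ext fun v => ?_
    rw [pow_two, Module.End.mul_apply, LinearMap.sub_apply, LinearMap.sub_apply,
      Module.End.one_apply, Module.End.one_apply, LinearMap.zero_apply, h1 _ (h2 v), sub_self]
  rcases subsingleton_or_nontrivial V with hV | hV
  · exact LinearMap.ext fun v => Subsingleton.elim _ _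
  haveI : CharP (Module.End F V) p :=
    charP_of_injective_algebraMap (FaithfulSMul.algebraMap_injective F _) p
  have hp : 2 ≤ p := (Fact.out : p.Prime).two_le
  have h3 : (f - 1) ^ p = 0 := pow_eq_zero_of_le hp hsq
  rw [sub_pow_char_of_commute (p := p) (Commute.one_right f), one_pow, sub_eq_zero] at h3
  exact h3

end Cfsg.Agent.BrauerFeit
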