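import Mathlib
import Cfsg.Agent.Lib.BrauerFeit.Linear
import Cfsg.Agent.Lib.BrauerFeit.Group
import Cfsg.Agent.Lib.BrauerFeit.Count

/-! The Brauer-Feit theorem: linear groups in characteristic `p` with bounded Sylow `p`-subgroup
have a normal abelian subgroup of bounded index. -/

set_option autoImplicit false

universe u v

namespace Cfsg.Agent.BrauerFeit

open Module

variable {p : ℕ} [Fact p.Prime]

/-- The inductive statement. -/
def Good (p m N J : ℕ) : Prop :=
  ∀ (F : Type v) [Field F] [CharP F p] [IsAlgClosed F] (V : Type v) [AddCommGroup V] [Module F V]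
    [FiniteDimensional F V], finrank F V ≤ N →
    ∀ (G : Type u) [Group G] [Finite G] (ρ : G →* Module.End F V), Function.Injective ρ →
      (Nat.card G).factorization p ≤ m →
      ∃ A : Subgroup G, A.Normal ∧ IsMulCommutative A ∧ ¬ p ∣ Nat.card A ∧ A.index ≤ J

theorem good_zero (m : ℕ) : Good.{u, v} p m 0 1 := by
  intro F _ _ _ V _ _ _ hV G _ _ ρ hρ _
  haveI : Subsingleton V :=
    Module.finrank_zero_iff.1 (Nat.le_zero.1 hV : finrank F V = 0)
  haveI : Subsingleton G := ⟨fun a b => hρ (LinearMap.ext fun v => Subsingleton.elim _ _)⟩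
  refine ⟨⊤, inferInstance, ⟨⟨fun a b => Subsingleton.elim _ _⟩⟩, ?_, ?_⟩
  · rw [Nat.card_of_subsingleton (1 : (⊤ : Subgroup G))]
    exact (Fact.out : p.Prime).not_dvd_one
  · rw [Subgroup.index_top]

variable {m N J0 : ℕ}

/-- The abelian-modulo-kernel part of a subquotient action. -/
theorem quotient_step (hJ0 : Good.{u, v} p m N J0) (F : Type v) [Field F] [CharP F p]
    [IsAlgClosed F] (W : Type v) [AddCommGroup W] [Module F W] [FiniteDimensional F W]
    (hW : finrank F W ≤ N) (G : Type u) [Group G] [Finite G] (σ : G →* Module.End F W)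
    (hm : (Nat.card G).factorization p ≤ m) :
    ∃ B : Subgroup G, B.index ≤ J0 ∧ ∀ a ∈ B, ∀ b ∈ B, σ (a * b) = σ (b * a) := by
  let σ' := σ.toHomUnits
  let τ : G ⧸ σ'.ker →* Module.End F W := (Units.coeHom _).comp (QuotientGroup.kerLift σ')
  have hτ : Function.Injective τ :=
    Units.val_injective.comp (QuotientGroup.kerLift_injective σ')
  obtain ⟨A, -, hA, -, hidx⟩ := hJ0 F W hW (G ⧸ σ'.ker) τ hτ
    (factorization_le_of_dvd Nat.card_pos.ne' (Subgroup.card_quotient_dvd_card _) hm)
  refine ⟨A.comap (QuotientGroup.mk' σ'.ker), ?_, ?_⟩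
  · rw [Subgroup.index_comap_of_surjective A (QuotientGroup.mk'_surjective _)]
    exact hidx
  · intro a ha b hb
    have h1 : (QuotientGroup.mk' σ'.ker a) * QuotientGroup.mk' σ'.ker b =
        QuotientGroup.mk' σ'.ker b * QuotientGroup.mk' σ'.ker a := congrArg Subtype.val (hA.is_comm.comm ⟨_, Subgroup.mem_comap.1 ha⟩ ⟨_, Subgroup.mem_comap.1 hb⟩)
    have h2 := congrArg τ h1
    rw [← map_mul, ← map_mul] at h2
    exact h2

/-- The reducible case. -/
theorem reducible (hJ0 : Good.{u, v} p m N J0) (F : Type v) [Field F] [CharP F p]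
    [IsAlgClosed F] (V : Type v) [AddCommGroup V] [Module F V] [FiniteDimensional F V]
    (hV : finrank F V ≤ N + 1) (G : Type u) [Group G] [Finite G] (ρ : G →* Module.End F V)
    (hρ : Function.Injective ρ) (hm : (Nat.card G).factorization p ≤ m)
    (W : Submodule F V) (hbot : W ≠ ⊥) (htop : W ≠ ⊤)
    (hW : ∀ g : G, ∀ w ∈ W, ρ g w ∈ W) :
    ∃ A : Subgroup G, A.Normal ∧ IsMulCommutative A ∧ ¬ p ∣ Nat.card A ∧
      A.index ≤ ((J0 * J0 * (p ^ m).factorial * p ^ m) * p ^ m).factorial := by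
  classical
  let ρW : G →* Module.End F W :=
    { toFun := fun g => (ρ g).restrict (hW g)
      map_one' := LinearMap.ext fun w => Subtype.ext (by simp [LinearMap.restrict_apply])
      map_mul' := fun a b => LinearMap.ext fun w => Subtype.ext (by simp [LinearMap.restrict_apply]) }
  let ρQ : G →* Module.End F (V ⧸ W) :=
    { toFun := fun g => W.mapQ W (ρ g) (fun w hw => hW g w hw)
      map_one' := Submodule.linearMap_qext _ (LinearMap.ext fun v => by simp)
      map_mul' := fun a b => Submodule.linearMap_qext _ (LinearMap.ext fun v => by simp) }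
  have hlt : finrank F W < finrank F V := Submodule.finrank_lt htop
  have hq : finrank F (V ⧸ W) + finrank F W = finrank F V := W.finrank_quotient_add_finrank
  have hWpos : 0 < finrank F W := by
    rcases Nat.eq_zero_or_pos (finrank F W) with h0 | h0
    · exact (hbot (Submodule.finrank_eq_zero.1 h0)).elim
    · exact h0
  obtain ⟨B1, hB1i, hB1⟩ := quotient_step hJ0 F W (by omega) G ρW hm
  obtain ⟨B2, hB2i, hB2⟩ := quotient_step hJ0 F (V ⧸ W) (by omega) G ρQ hm
  let K : Subgroup G := ρW.toHomUnits.ker ⊓ ρQ.toHomUnits.ker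
  haveI : K.Normal := Subgroup.normal_inf_normal _ _
  have hK : ∀ k ∈ K, k ^ p = 1 := by
    intro k hk
    apply hρ
    rw [map_pow, map_one]
    refine pow_p_of_two_step (ρ k) W ?_ ?_
    · intro w hw
      have h1 : ρW k = 1 := congrArg Units.val (MonoidHom.mem_ker.1 hk.1)
      exact congrArg Subtype.val (LinearMap.congr_fun h1 ⟨w, hw⟩)
    · intro v
      have h1 : ρQ k = 1 := congrArg Units.val (MonoidHom.mem_ker.1 hk.2)
      have h2 : (Submodule.Quotient.mk (ρ k v) : V ⧸ W) = Submodule.Quotient.mk v :=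
        LinearMap.congr_fun h1 (Submodule.Quotient.mk v)
      exact (Submodule.Quotient.eq W).1 h2
  have hBK : ∀ a ∈ B1 ⊓ B2, ∀ b ∈ B1 ⊓ B2, a * b * a⁻¹ * b⁻¹ ∈ K := by
    intro a ha b hb
    refine Subgroup.mem_inf.2 ⟨?_, ?_⟩
    · rw [MonoidHom.mem_ker, show a * b * a⁻¹ * b⁻¹ = (a * b) * (b * a)⁻¹ by group,
        map_mul, map_inv, mul_inv_eq_one]
      exact Units.ext (hB1 a ha.1 b hb.1)
    · rw [MonoidHom.mem_ker, show a * b * a⁻¹ * b⁻¹ = (a * b) * (b * a)⁻¹ by group,
        map_mul, map_inv, mul_inv_eq_one]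
      exact Units.ext (hB2 a ha.2 b hb.2)
  obtain ⟨A, hA, hAi⟩ := almost_abelian hm (B1 ⊓ B2) K hK hBK
  refine normal_coprime hm A hA _ (le_trans hAi ?_)
  exact Nat.mul_le_mul (Nat.mul_le_mul (le_trans Subgroup.index_inf_le
    (Nat.mul_le_mul hB1i hB2i)) le_rfl) le_rfl

theorem good_succ (hJ0 : Good.{u, v} p m N J0) : ∃ J, Good.{u, v} p m (N + 1) J := by
  classical
  have hp : p.Prime := Fact.out
  set R := ((J0 * J0 * (p ^ m).factorial * p ^ m) * p ^ m).factorial with hR
  set L := R.factorial with hL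
  set k0 := (N + 1) * (N + 1) + 2 with hk0
  set Q := L ^ k0 with hQ
  obtain ⟨Jc, hJc⟩ := jordan_count.{u} p L Q R (Q ^ (N + 1)) ((N + 2) ^ (N + 1)) (N + 1)
  refine ⟨R + (Jc * p ^ m).factorial, ?_⟩
  intro F _ _ _ V _ _ _ hV G _ _ ρ hρ hm
  -- a subgroup commuting with a non-scalar element
  by_cases hscal : ∀ z ∈ Subgroup.center G, ∃ c : F, ρ z = c • 1
  swap
  · obtain ⟨z, hz, hns⟩ : ∃ z ∈ Subgroup.center G, ∀ c : F, ρ z ≠ c • 1 := by
      by_contra hcon
      refine hscal fun z hz => ?_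
      by_contra h1
      exact hcon ⟨z, hz, fun c hc => h1 ⟨c, hc⟩⟩
    obtain ⟨W, hb, ht, hW⟩ := invariant_of_nonscalar ρ z hns
    obtain ⟨A, hA1, hA2, hA3, hA4⟩ := reducible hJ0 F V hV G ρ hρ hm W hb ht
      (fun g => hW g (Subgroup.mem_center_iff.1 hz g).symm)
    exact ⟨A, hA1, hA2, hA3, le_trans hA4 (Nat.le_add_right _ _)⟩
  have hns : ∀ g : G, g ∉ Subgroup.center G → ∀ c : F, ρ g ≠ c • 1 := by
    intro g hg c hc
    refine hg (Subgroup.mem_center_iff.2 fun x => hρ ?_)
    rw [map_mul, map_mul, hc, mul_smul_comm, smul_mul_assoc, one_mul, mul_one]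
  have horder : ∀ a : G, ¬ p ∣ orderOf a → ((orderOf a : ℕ) : F) ≠ 0 := fun a ha h0 =>
    ha ((CharP.cast_eq_zero_iff F p _).1 h0)
  have hL1 : 1 ≤ L := Nat.factorial_pos _
  have hQ1 : 1 ≤ Q := Nat.one_le_pow _ _ hL1
  have hyp : Hyp G p L Q R (Q ^ (N + 1)) ((N + 2) ^ (N + 1)) (N + 1) := by
    refine ⟨?_, ?_, ?_, ?_, ?_⟩
    · intro g hg
      obtain ⟨W, hb, ht, hW⟩ := invariant_of_nonscalar ρ g (hns g hg)
      set C := Subgroup.centralizer ({g} : Set G) with hC
      obtain ⟨A, hA1, hA2, hA3, hA4⟩ := reducible hJ0 F V hV C (ρ.comp C.subtype)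
        (hρ.comp Subtype.val_injective)
        (factorization_le_of_dvd Nat.card_pos.ne' (Subgroup.card_subgroup_dvd_card C) hm) W hb ht
        (fun x => hW x.1 (Subgroup.mem_centralizer_singleton_iff.1 x.2).symm)
      refine ⟨A.map C.subtype, ?_, ?_, ?_, ?_, ?_⟩
      · rintro _ ⟨a, ha, rfl⟩ _ ⟨b, hb, rfl⟩
        exact congrArg Subtype.val (setLike_mul_comm ha hb)
      · rw [Subgroup.card_map_of_injective Subtype.val_injective]
        exact hA3
      · rintro _ ⟨a, -, rfl⟩
        exact (Subgroup.mem_centralizer_singleton_iff.1 a.2).symm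
      · intro x hx
        refine ⟨⟨x, Subgroup.mem_centralizer_singleton_iff.2 hx.symm⟩ ^ L, ?_, by simp⟩
        have h1 := A.pow_index_mem (⟨x, Subgroup.mem_centralizer_singleton_iff.2 hx.symm⟩ : C)
        obtain ⟨d, hd⟩ : A.index ∣ L := Nat.dvd_factorial
          (Nat.pos_of_ne_zero Subgroup.index_ne_zero_of_finite) hA4
        rw [hd, pow_mul]
        exact A.pow_mem h1 _
      · rw [Subgroup.card_map_of_injective Subtype.val_injective, ← Subgroup.index_mul_card A]
        exact Nat.mul_le_mul hA4 le_rfl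
    · intro A hA hAp
      refine separate ρ hρ _ (fun a ha b hb => hA a ha.1 b hb.1)
        (fun a ha => horder a (orderOf_not_dvd A hAp ha.1))
        (Polynomial.nthRootsFinset Q (1 : F)) ?_ (N + 1) hV Q ?_ hQ1
      · intro b hb μ hμ
        rw [Polynomial.mem_nthRootsFinset hQ1]
        obtain ⟨v, hv⟩ := hμ.exists_hasEigenvector
        have h1 := hv.pow_apply Q
        rw [← map_pow, hb.2, map_one, Module.End.one_apply] at h1
        by_contra hne
        exact hv.2 (smul_eq_zero.1 (show (μ ^ Q - 1) • v = 0 by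
          rw [sub_smul, ← h1, one_smul, sub_self]) |>.resolve_left (sub_ne_zero.2 hne))
      · rw [Polynomial.nthRootsFinset_def]
        exact le_trans (Multiset.toFinset_card_le _) (Polynomial.card_nthRoots _ _)
    · intro a B hB1 hB2
      obtain ⟨S, hS1, hS2⟩ := eig_finset (ρ a)
      refine separate ρ hρ B hB1 (fun b hb => horder b (hB2 b hb).1) S ?_ (N + 1) hV (N + 2)
        (by omega) (by omega)
      intro b hb μ hμ
      obtain ⟨g, rfl⟩ := isConj_iff.1 (hB2 b hb).2
      exact hS2 μ (eigenvalue_conj ρ a g μ hμ)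
    · intro g hg
      haveI : Nontrivial V := by
        by_contra h
        haveI := not_nontrivial_iff_subsingleton.1 h
        exact hns g hg 1 (LinearMap.ext fun v => Subsingleton.elim _ _)
      obtain ⟨μ, hμ⟩ := Module.End.exists_eigenvalue (ρ g)
      obtain ⟨v, hv⟩ := hμ.exists_hasEigenvector
      obtain ⟨S, hS1, hS2⟩ := eig_finset (ρ g)
      set Zg := {z : G | z ∈ Subgroup.center G ∧ IsConj g (g * z)} with hZg
      have hc : ∀ z : Zg, ∃ c : F, ρ z.1 = c • 1 := fun z => hscal z.1 z.2.1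
      choose cz hcz using hc
      have hmem : ∀ z : Zg, cz z * μ ∈ S := by
        intro z
        apply hS2
        obtain ⟨x, hx⟩ := isConj_iff.1 z.2.2
        refine eigenvalue_conj ρ g x _ (Module.End.hasEigenvalue_of_hasEigenvector (x := v) ⟨?_, hv.2⟩)
        rw [hx, Module.End.mem_eigenspace_iff, map_mul, hcz z, Module.End.mul_apply,
          LinearMap.smul_apply, Module.End.one_apply, map_smul, hv.apply_eq_smul, smul_smul]
      rw [← Nat.card_coe_set_eq]
      refine le_trans (Nat.card_le_card_of_injective (fun z : Zg => (⟨cz z * μ, hmem z⟩ : S)) ?_) ?_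
      · intro z z' hzz
        have h1 : cz z = cz z' :=
          mul_right_cancel₀ (eigenvalue_ne_zero ρ g μ hμ) (congrArg Subtype.val hzz)
        exact Subtype.ext (hρ (by rw [hcz z, hcz z', h1]))
      · rw [Nat.card_eq_fintype_card, Fintype.card_coe]
        omega
    · intro x hx
      let f : ℕ → ℕ := fun k => cdim (ρ (x ^ L ^ k))
      have hmono : ∀ k, f k ≤ f (k + 1) := fun k => by
        show cdim (ρ (x ^ L ^ k)) ≤ cdim (ρ (x ^ L ^ (k + 1)))
        rw [pow_succ, pow_mul, map_pow ρ (x ^ L ^ k) L]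
        exact cdim_pow_mono _ _
      obtain ⟨k, hk1, hk2, hk3⟩ : ∃ k, 1 ≤ k ∧ k < k0 ∧ f (k + 1) ≤ f k := by
        by_contra hcon
        have hlt : ∀ k, k + 1 < k0 + 0 → f (k + 1) < f (k + 2) := fun k hk => by
          by_contra h1
          exact hcon ⟨k + 1, by omega, by omega, Nat.le_of_not_lt h1⟩
        have hgrow : ∀ k, k + 1 ≤ k0 → k ≤ f (k + 1) := by
          intro k
          induction k with
          | zero => intro _; exact Nat.zero_le _
          | succ k ih =>
            intro hk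
            have := ih (by omega)
            have := hlt k (by omega)
            show k + 1 ≤ f (k + 2)
            omega
        have h1 := hgrow (k0 - 1) (by omega)
        have h2 : f (k0 - 1 + 1) ≤ finrank F V * finrank F V := cdim_le _
        have h3 : finrank F V * finrank F V ≤ (N + 1) * (N + 1) := Nat.mul_le_mul hV hV
        omega
      have hdvd : L ^ k ∣ Q := pow_dvd_pow _ hk2.le
      refine ⟨k, hk1, fun hz => hx ?_, hdvd, ?_⟩
      · rw [← Nat.mul_div_cancel' hdvd, pow_mul]
        exact Subgroup.pow_mem _ hz _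
      · intro y hy
        refine commute_of_cdim ρ hρ _ L ?_ y hy
        rw [← pow_mul, ← pow_succ]
        exact hk3
  obtain ⟨H, hH, hHi⟩ := hJc G hyp
  obtain ⟨A, hA1, hA2, hA3, hA4⟩ := normal_coprime hm H hH Jc hHi
  exact ⟨A, hA1, hA2, hA3, le_trans hA4 (Nat.le_add_left _ _)⟩

theorem good_all (m N : ℕ) : ∃ J, Good.{u, v} p m N J := by
  induction N with
  | zero => exact ⟨1, good_zero m⟩
  | succ N ih =>
    obtain ⟨J0, hJ0⟩ := ih
    exact good_succ hJ0

/-- The bound over an arbitrary field. -/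
theorem brauer_feit (p : ℕ) [Fact p.Prime] : ∃ f : ℕ → ℕ → ℕ,
    ∀ (G : Type u) [Group G] [Finite G] (F : Type v) [Field F] [CharP F p] (n : ℕ)
      (ρ : Representation F G (Fin n → F)), Function.Injective ρ →
      ∀ m : ℕ, (Nat.card G).factorization p = m →
      ∃ A : Subgroup G, A.Normal ∧ IsMulCommutative A ∧ A.index < f m n := by
  choose J hJ using fun m N => good_all.{u, v} (p := p) m N
  refine ⟨fun m n => J m n + 1, ?_⟩
  intro G _ _ F _ _ n ρ hρ m hm
  let K := AlgebraicClosure F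
  haveI : CharP K p := charP_of_injective_algebraMap (algebraMap F K).injective p
  let σ : G →* Module.End K (Fin n → K) :=
    ((Matrix.toLinAlgEquiv' : Matrix (Fin n) (Fin n) K ≃ₐ[K] _).toMonoidHom).comp
      ((algebraMap F K).mapMatrix.toMonoidHom.comp
        ((LinearMap.toMatrixAlgEquiv' : _ ≃ₐ[F] Matrix (Fin n) (Fin n) F).toMonoidHom.comp ρ))
  have hσ : Function.Injective σ :=
    (Matrix.toLinAlgEquiv' : Matrix (Fin n) (Fin n) K ≃ₐ[K] _).injective.comp
      ((Matrix.map_injective (algebraMap F K).injective).comp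
        ((LinearMap.toMatrixAlgEquiv' : _ ≃ₐ[F] Matrix (Fin n) (Fin n) F).injective.comp hρ))
  obtain ⟨A, h1, h2, -, h3⟩ := hJ m n K (Fin n → K) (by simp) G σ hσ hm.le
  exact ⟨A, h1, h2, Nat.lt_succ_of_le h3⟩

end Cfsg.Agent.BrauerFeit
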